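import Groth.Prelude.Def_W4c5t1liftcy3defoArt
import Mathlib.RingTheory.Flat.Basic
import Mathlib.LinearAlgebra.TensorProduct.Basis

set_option autoImplicit false

universe u v

open CategoryTheory Polynomial
open scoped TensorProduct

namespace K944.TLift

open _root_.T1Lift

variable (k : Type u) [Field k]

theorem αAlg_mk (n : ℕ) (p : k[X]) : αAlg k n (AdjoinRoot.mk _ p) = AdjoinRoot.mk _ p := by
  rw [αAlg, AdjoinRoot.liftAlgHom_mk]
  have h := AdjoinRoot.aeval_eq (f := (X : k[X]) ^ (n + 1)) p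
  rw [← h, aeval_def]
  rfl

theorem αAlg_surjective (n : ℕ) : Function.Surjective (αAlg k n) := by
  intro x
  obtain ⟨p, rfl⟩ := AdjoinRoot.mk_surjective x
  exact ⟨AdjoinRoot.mk _ p, αAlg_mk k n p⟩

theorem mem_ker_αAlg {n : ℕ} {b : Tr k (n + 1)} (h : αAlg k n b = 0) :
    ∃ c : k, b = algebraMap k _ c * t k (n + 1) ^ (n + 1) := by
  obtain ⟨p, rfl⟩ := AdjoinRoot.mk_surjective b
  rw [αAlg_mk, AdjoinRoot.mk_eq_zero] at h
  obtain ⟨q, rfl⟩ := h
  obtain ⟨d, hd⟩ := eq_algebraMap_add_t_mul k (n + 1) (AdjoinRoot.mk _ q)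
  refine ⟨resA k (n + 1) (AdjoinRoot.mk _ q), ?_⟩
  have h1 : (AdjoinRoot.mk ((X : k[X]) ^ (n + 1 + 1)) (X ^ (n + 1) * q)) =
      t k (n + 1) ^ (n + 1) * AdjoinRoot.mk _ q := by
    rw [map_mul, map_pow, AdjoinRoot.mk_X]
  rw [h1]
  conv_lhs => rw [hd]
  have h2 := t_pow k (n + 1)
  rw [pow_succ] at h2
  linear_combination d * h2

theorem t_pow_ne_zero (n : ℕ) : t k n ^ n ≠ 0 := by
  intro h
  have h1 : (AdjoinRoot.mk ((X : k[X]) ^ (n + 1)) (X ^ n)) = 0 := by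
    rw [map_pow, AdjoinRoot.mk_X]; exact h
  rw [AdjoinRoot.mk_eq_zero, X_pow_dvd_iff] at h1
  have h2 := h1 n (Nat.lt_succ_self n)
  rw [coeff_X_pow_self] at h2
  exact one_ne_zero h2

theorem mul_ker_αAlg {n : ℕ} {a b : Tr k (n + 1)} (ha : resA k (n + 1) a = 0) (h : αAlg k n b = 0) : a * b = 0 := by
  obtain ⟨c, rfl⟩ := mem_ker_αAlg k h
  obtain ⟨d, hd⟩ := eq_algebraMap_add_t_mul k (n + 1) a
  rw [ha, map_zero, zero_add] at hd
  have h2 := t_pow k (n + 1)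
  rw [pow_succ] at h2
  rw [hd]
  linear_combination (d * algebraMap k _ c) * h2

theorem isSemismallExt_α (n : ℕ) : ArtFun.Art.IsSemismallExt (α k n) := by
  refine ⟨αAlg_surjective k n, ?_⟩
  rw [← le_bot_iff, Ideal.mul_le]
  intro a ha b hb
  rw [ArtFun.Art.mem_maximalIdeal_iff] at ha
  exact mul_ker_αAlg k ha hb

/-- The ideal `(t^(n+1) y)` of `B_(n+1)`: the intersection of the kernels of the two projections. -/
noncomputable def Kid (n : ℕ) : Ideal (B k (n + 1)) :=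
  RingHom.ker (β k (n + 1)).toAlgHom ⊓ RingHom.ker (ξ k n).toAlgHom

theorem Kid_le_max (n : ℕ) : Kid k n ≤ IsLocalRing.maximalIdeal (B k (n + 1)) := by
  intro x hx
  rw [ArtFun.Art.mem_maximalIdeal_iff, ← ArtFun.Art.res_app (β k (n + 1))]
  have h : (β k (n + 1)) x = 0 := hx.1
  rw [h, map_zero]

/-- `C = B_(n+1) / (t^(n+1) y)`. -/
noncomputable def Cn (n : ℕ) : ArtFun.Art k k := ArtFun.Art.quot (B k (n + 1)) (Kid k n) (Kid_le_max k n)

/-- `B_(n+1) → C`. -/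
noncomputable def πn (n : ℕ) : B k (n + 1) ⟶ Cn k n := ArtFun.Art.quotMk _ _ (Kid_le_max k n)

/-- `C → A_(n+1)`. -/
noncomputable def p1 (n : ℕ) : Cn k n ⟶ A k (n + 1) :=
  ArtFun.Art.quotFactor (Kid_le_max k n) (β k (n + 1)) inf_le_left

/-- `C → B_n`. -/
noncomputable def p2 (n : ℕ) : Cn k n ⟶ B k n :=
  ArtFun.Art.quotFactor (Kid_le_max k n) (ξ k n) inf_le_right

theorem πn_p1 (n : ℕ) : πn k n ≫ p1 k n = β k (n + 1) := ArtFun.Art.quotMk_quotFactor _ _ _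
theorem πn_p2 (n : ℕ) : πn k n ≫ p2 k n = ξ k n := ArtFun.Art.quotMk_quotFactor _ _ _

theorem πn_surjective (n : ℕ) : Function.Surjective (πn k n) := ArtFun.Art.quotMk_surjective _ _ _

theorem β_surjective (n : ℕ) : Function.Surjective (β k n) := fun a => ⟨(a, 0), rfl⟩

theorem isFibreProd (n : ℕ) : ArtFun.Art.IsFibreProd (p1 k n) (p2 k n) (α k n) (β k n) where
  w := by
    apply ArtFun.Art.hom_ext
    apply AlgHom.ext
    intro x
    obtain ⟨y, rfl⟩ := πn_surjective k n x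
    rfl
  inj b₁ b₂ h₁ h₂ := by
    obtain ⟨y₁, rfl⟩ := πn_surjective k n b₁
    obtain ⟨y₂, rfl⟩ := πn_surjective k n b₂
    have e1 : (β k (n + 1)) y₁ = (β k (n + 1)) y₂ := h₁
    have e2 : (ξ k n) y₁ = (ξ k n) y₂ := h₂
    refine (Ideal.Quotient.eq).mpr ⟨?_, ?_⟩
    · change (β k (n + 1)).toAlgHom (y₁ - y₂) = 0
      rw [map_sub, sub_eq_zero]; exact e1
    · change (ξ k n).toAlgHom (y₁ - y₂) = 0
      rw [map_sub, sub_eq_zero]; exact e2
  surj a' a'' h := by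
    obtain ⟨b, hb⟩ := αAlg_surjective k n a''.snd
    refine ⟨πn k n (a', b), rfl, ?_⟩
    change (ξ k n) (a', b) = a''
    exact TrivSqZeroExt.ext h hb

theorem isSemismallExt_πn (n : ℕ) : ArtFun.Art.IsSemismallExt (πn k n) := by
  refine ⟨πn_surjective k n, ?_⟩
  rw [← le_bot_iff, Ideal.mul_le]
  intro a ha b hb
  have hb' : b ∈ Kid k n := Ideal.Quotient.eq_zero_iff_mem.mp hb
  have h1 : TrivSqZeroExt.fst (M := Tr k (n + 1)) b = 0 := hb'.1
  have h2 : αAlg k n (TrivSqZeroExt.snd (R := Tr k (n + 1)) b) = 0 := by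
    have := hb'.2
    exact congrArg TrivSqZeroExt.snd this
  rw [ArtFun.Art.mem_maximalIdeal_iff] at ha
  have ha' : resA k (n + 1) (TrivSqZeroExt.fst (M := Tr k (n + 1)) a) = 0 := ha
  rw [Ideal.mem_bot]
  change (HMul.hMul (α := DualNumber (Tr k (n + 1))) (β := DualNumber (Tr k (n + 1))) a b : DualNumber (Tr k (n + 1))) = 0
  refine TrivSqZeroExt.ext ?_ ?_
  · rw [TrivSqZeroExt.fst_mul, h1, mul_zero]; rfl
  · rw [TrivSqZeroExt.snd_mul, h1, MulOpposite.op_zero, zero_smul, add_zero, smul_eq_mul, mul_ker_αAlg k ha' h2]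
    rfl

/-- `ε` followed by the projections. -/
theorem ε_β (n : ℕ) : ε k n ≫ β k n = α k n := by
  apply ArtFun.Art.hom_ext
  refine AdjoinRoot.algHom_ext ?_
  change (εAlg k n (t k (n + 1))).fst = αAlg k n (t k (n + 1))
  rw [εAlg_t, αAlg_t, TrivSqZeroExt.fst_add, TrivSqZeroExt.fst_inl, DualNumber.fst_eps, add_zero]

theorem dualMap_t_add_eps (n : ℕ) : dualMap k (αAlg k n)
    ((TrivSqZeroExt.inl (t k (n + 1)) : DualNumber (Tr k (n + 1))) + DualNumber.eps) =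
    (TrivSqZeroExt.inl (t k n) : DualNumber (Tr k n)) + DualNumber.eps := by
  refine TrivSqZeroExt.ext ?_ ?_
  · change αAlg k n (t k (n + 1) + 0) = t k n + 0
    rw [add_zero, add_zero, αAlg_t]
  · change αAlg k n (0 + 1) = 0 + 1
    rw [zero_add, zero_add, map_one]

theorem ε_ξ (n : ℕ) : ε k (n + 1) ≫ ξ k n = α k (n + 1) ≫ ε k n := by
  apply ArtFun.Art.hom_ext
  refine AdjoinRoot.algHom_ext ?_
  change dualMap k (αAlg k n) (εAlg k (n + 1) (t k (n + 2))) = εAlg k n (αAlg k (n + 1) (t k (n + 2)))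
  rw [εAlg_t, αAlg_t, εAlg_t, dualMap_t_add_eps]

theorem pow_mem_Kid (n : ℕ) :
    (((TrivSqZeroExt.inl (t k (n + 1)) : DualNumber (Tr k (n + 1))) + DualNumber.eps) ^ (n + 2) : DualNumber (Tr k (n + 1)))
      ∈ Kid k n := by
  refine ⟨?_, ?_⟩
  · change TrivSqZeroExt.fst (((TrivSqZeroExt.inl (t k (n + 1)) : DualNumber (Tr k (n + 1))) + DualNumber.eps) ^ (n + 2)) = 0
    rw [TrivSqZeroExt.fst_pow, TrivSqZeroExt.fst_add, TrivSqZeroExt.fst_inl, DualNumber.fst_eps, add_zero]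
    exact t_pow k (n + 1)
  · change dualMap k (αAlg k n) (((TrivSqZeroExt.inl (t k (n + 1)) : DualNumber (Tr k (n + 1))) + DualNumber.eps) ^ (n + 2)) = 0
    rw [map_pow, dualMap_t_add_eps, inl_t_add_eps_pow]

/-- `A_(n+1) → C`, `t ↦ t + y`. -/
noncomputable def gAlg (n : ℕ) : Tr k (n + 1) →ₐ[k] (B k (n + 1) ⧸ Kid k n) :=
  AdjoinRoot.liftAlgHom _ (Algebra.ofId k _)
    (Ideal.Quotient.mk (Kid k n) ((TrivSqZeroExt.inl (t k (n + 1)) : DualNumber (Tr k (n + 1))) + DualNumber.eps))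
    (by
      rw [eval₂_X_pow, ← map_pow]
      exact Ideal.Quotient.eq_zero_iff_mem.mpr (pow_mem_Kid k n))

theorem gAlg_t (n : ℕ) : gAlg k n (t k (n + 1)) =
    Ideal.Quotient.mk (Kid k n) ((TrivSqZeroExt.inl (t k (n + 1)) : DualNumber (Tr k (n + 1))) + DualNumber.eps) :=
  AdjoinRoot.liftAlgHom_root _ _ _ _

/-- `A_(n+1) ⟶ C`, `t ↦ t + y`. -/
noncomputable def g (n : ℕ) : A k (n + 1) ⟶ Cn k n :=
  ArtFun.Art.homMk (gAlg k n) (AdjoinRoot.algHom_ext (by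
    change (Cn k n).res (gAlg k n (t k (n + 1))) = resA k (n + 1) (t k (n + 1))
    rw [gAlg_t, resA_t]
    change resA k (n + 1) (t k (n + 1) + 0) = 0
    rw [add_zero, resA_t]))

theorem g_p1 (n : ℕ) : g k n ≫ p1 k n = 𝟙 _ := by
  apply ArtFun.Art.hom_ext
  refine AdjoinRoot.algHom_ext ?_
  change (p1 k n) (gAlg k n (t k (n + 1))) = t k (n + 1)
  rw [gAlg_t]
  change t k (n + 1) + 0 = t k (n + 1)
  rw [add_zero]

theorem g_p2 (n : ℕ) : g k n ≫ p2 k n = ε k n := by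
  apply ArtFun.Art.hom_ext
  refine AdjoinRoot.algHom_ext ?_
  change (p2 k n) (gAlg k n (t k (n + 1))) = εAlg k n (t k (n + 1))
  rw [gAlg_t, εAlg_t, ← dualMap_t_add_eps]
  rfl

theorem α_g (n : ℕ) : α k (n + 1) ≫ g k n = ε k (n + 1) ≫ πn k n := by
  apply ArtFun.Art.hom_ext
  refine AdjoinRoot.algHom_ext ?_
  change gAlg k n (αAlg k (n + 1) (t k (n + 2))) = Ideal.Quotient.mk (Kid k n) (εAlg k (n + 1) (t k (n + 2)))
  rw [εAlg_t, αAlg_t, gAlg_t]
  rfl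

/-- the induced map on kernels -/
noncomputable def ell (n : ℕ) :
    ↥(RingHom.ker (α k (n + 1)).toAlgHom) →ₗ[k] ↥(RingHom.ker (πn k n).toAlgHom) where
  toFun j := ⟨(ε k (n + 1)) (j : A k (n + 2)), by
    rw [RingHom.mem_ker]
    change (ε k (n + 1) ≫ πn k n) (j : A k (n + 2)) = 0
    rw [← α_g]
    change (g k n) ((α k (n + 1)) (j : A k (n + 2))) = 0
    have : (α k (n + 1)) (j : A k (n + 2)) = 0 := j.2
    rw [this, map_zero]⟩
  map_add' x y := Subtype.ext (map_add _ _ _)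
  map_smul' r x := Subtype.ext (map_smul (ε k (n + 1)).toAlgHom _ _)

theorem ell_injective [CharZero k] (n : ℕ) : Function.Injective (ell k n) := by
  rw [injective_iff_map_eq_zero]
  rintro ⟨j, hj⟩ h
  have h1 : εAlg k (n + 1) j = 0 := congrArg Subtype.val h
  obtain ⟨c, hc⟩ := mem_ker_αAlg k (n := n + 1) (b := j) hj
  rw [hc, map_mul, map_pow, εAlg_t, AlgHom.commutes] at h1
  have h2 := congrArg TrivSqZeroExt.snd h1
  rw [TrivSqZeroExt.snd_mul, TrivSqZeroExt.snd_pow, TrivSqZeroExt.algebraMap_eq_inl', TrivSqZeroExt.snd_inl,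
    smul_zero, add_zero, TrivSqZeroExt.fst_inl, TrivSqZeroExt.snd_zero, TrivSqZeroExt.fst_add,
    TrivSqZeroExt.fst_inl, DualNumber.fst_eps, add_zero, TrivSqZeroExt.snd_add, TrivSqZeroExt.snd_inl,
    DualNumber.snd_eps, zero_add] at h2
  have h3 : (n + 1 + 1).pred = n + 1 := rfl
  rw [h3, smul_eq_mul, smul_eq_mul, mul_one, nsmul_eq_mul] at h2
  have h4 : algebraMap k (Tr k (n + 1)) (c * ((n + 1 + 1 : ℕ) : k)) * t k (n + 1) ^ (n + 1) = 0 := by
    rw [map_mul, map_natCast, mul_assoc]; exact h2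
  have h5 : c * ((n + 1 + 1 : ℕ) : k) = 0 := by
    by_contra hne
    have h6 := congrArg (fun z => algebraMap k (Tr k (n + 1)) (c * ((n + 1 + 1 : ℕ) : k))⁻¹ * z) h4
    simp only [mul_zero] at h6
    rw [← mul_assoc, ← map_mul, inv_mul_cancel₀ hne, map_one, one_mul] at h6
    exact t_pow_ne_zero k (n + 1) h6
  have h7 : c = 0 := (mul_eq_zero.mp h5).resolve_right (by exact_mod_cast Nat.succ_ne_zero (n + 1))
  apply Subtype.ext
  change j = 0
  rw [hc, h7, map_zero, zero_mul]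
  rfl

end K944.TLift
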